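import Groth.Agent.S2Ext24.Sections

/-!
# `j_*` of a finite flat algebra over a big open is finite and of depth two
-/

universe u

open CategoryTheory CategoryTheory.Limits AlgebraicGeometry TopologicalSpace

namespace Groth.Agent.S2Ext24

theorem isLocalizedModule_basicOpen {V : Scheme.{u}} (T : V.Opens) (hT : IsCompact (T : Set V))
    (hT' : IsQuasiSeparated (T : Set V)) {A : Type u} [CommRing A] [Algebra A Γ(V, T)] (g : A)
    (E : V.Opens) (hE : E = V.basicOpen (algebraMap A Γ(V, T) g)) (hle : E ≤ T)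
    [Algebra A Γ(V, E)] [Algebra Γ(V, T) Γ(V, E)] [IsScalarTower A Γ(V, T) Γ(V, E)]
    (halg : algebraMap Γ(V, T) Γ(V, E) = (V.presheaf.map (homOfLE hle).op).hom) :
    IsLocalizedModule (Submonoid.powers g) (IsScalarTower.toAlgHom A Γ(V, T) Γ(V, E)).toLinearMap := by
  subst hE
  rw [isLocalizedModule_iff_isLocalization, Algebra.algebraMapSubmonoid, Submonoid.map_powers]
  rename_i inst _
  obtain rfl : inst = (V.presheaf.map (homOfLE hle).op).hom.toAlgebra :=
    Algebra.algebra_ext _ _ fun r => RingHom.congr_fun halg r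
  exact isLocalization_basicOpen_of_qcqs hT hT' _

theorem exists_cover {X : Scheme.{u}} [IsLocallyNoetherian X] (U : X.Opens) {W : X.Opens}
    (hW : IsAffineOpen W) :
    ∃ s : Finset Γ(X, W), (⨆ g : s, X.basicOpen (g : Γ(X, W))) = W ⊓ U := by
  classical
  haveI : IsNoetherianRing Γ(X, W) := IsLocallyNoetherian.component_noetherian ⟨W, hW⟩
  haveI : NoetherianSpace W := noetherianSpace_of_isAffineOpen W hW
  have hc : IsCompact ((W ⊓ U : X.Opens) : Set X) := by
    have h1 : IsCompact (Subtype.val ⁻¹' (U : Set X) : Set W) := NoetherianSpace.isCompact _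
    have h2 := h1.image continuous_subtype_val
    have e : ((W ⊓ U : X.Opens) : Set X) =
        (Subtype.val : ((W : Set X) : Type u) → X) '' (Subtype.val ⁻¹' (U : Set X)) := by
      apply Set.ext
      intro x
      exact ⟨fun h => ⟨⟨x, h.1⟩, h.2, rfl⟩, by rintro ⟨⟨y, hy⟩, hu, rfl⟩; exact ⟨hy, hu⟩⟩
    rw [e]
    exact h2
  have hx : ∀ x : ((W ⊓ U : X.Opens) : Set X), ∃ g : Γ(X, W),
      X.basicOpen g ≤ W ⊓ U ∧ (x : X) ∈ X.basicOpen g := by
    intro x
    obtain ⟨g, hg1, hg2⟩ := hW.exists_basicOpen_le (V := W ⊓ U) ⟨x, x.2⟩ x.2.1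
    exact ⟨g, hg1, hg2⟩
  choose g hg1 hg2 using hx
  obtain ⟨t, ht⟩ := hc.elim_finite_subcover (fun x => (X.basicOpen (g x) : Set X))
    (fun x => (X.basicOpen (g x)).isOpen) (fun x hx => Set.mem_iUnion.mpr ⟨⟨x, hx⟩, hg2 _⟩)
  refine ⟨t.image g, le_antisymm (iSup_le fun y => ?_) fun x hx => ?_⟩
  · obtain ⟨x, -, hx⟩ := Finset.mem_image.mp y.2
    rw [← hx]; exact hg1 x
  · obtain ⟨y, hy⟩ := Set.mem_iUnion.mp (ht hx)
    obtain ⟨hy1, hy2⟩ := Set.mem_iUnion.mp hy
    exact Opens.mem_iSup.mpr ⟨⟨g y, Finset.mem_image_of_mem g hy1⟩, hy2⟩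

theorem finite_app_of_hartogs {X : Scheme.{u}} [IsLocallyNoetherian X] (U : X.Opens)
    (hU : ∀ x : X, x ∉ U → (2 : ℕ∞) ≤ LocCoh.depth (X.presheaf.stalk x) (X.presheaf.stalk x))
    {V : Scheme.{u}} (q : V ⟶ (U : Scheme.{u})) [IsFinite q] [Flat q]
    [QuasiCompact (q ≫ U.ι)] [QuasiSeparated (q ≫ U.ι)] {W : X.Opens} (hW : IsAffineOpen W) :
    ((q ≫ U.ι).app W).hom.Finite ∧
      (letI := ((q ≫ U.ι).app W).hom.toAlgebra
      ∀ (p : Ideal Γ(X, W)) [p.IsPrime] (a b : Γ(X, W)),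
        RegPairAt p Γ(X, W) a b → RegPairAt p Γ(V, (q ≫ U.ι) ⁻¹ᵁ W) a b) := by
  classical
  let f := q ≫ U.ι
  let T := f ⁻¹ᵁ W
  letI algM : Algebra Γ(X, W) Γ(V, T) := (f.app W).hom.toAlgebra
  haveI : IsNoetherianRing Γ(X, W) := IsLocallyNoetherian.component_noetherian ⟨W, hW⟩
  obtain ⟨s, hs⟩ := exists_cover U hW
  let g : s → Γ(X, W) := fun i => i
  have hT : IsCompact (T : Set V) := f.isCompact_preimage hW.isCompact
  have hT' : IsQuasiSeparated (T : Set V) := f.isQuasiSeparated_preimage hW.isQuasiSeparated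
  have hA : Sep g Γ(X, W) ∧ Glue g Γ(X, W) := sep_glue_sections W hW.isCompact hW.isQuasiSeparated
    (A := Γ(X, W)) g (W ⊓ U) inf_le_left (by simpa [g] using hs)
    (Hartogs.affine_bijective U hU hW)
  have hcov : (⨆ i, V.basicOpen (algebraMap Γ(X, W) Γ(V, T) (g i))) = T := by
    simp only [RingHom.algebraMap_toAlgebra]
    change (⨆ i : s, V.basicOpen (f.app W (g i))) = T
    have : ∀ i : s, V.basicOpen (f.app W (g i)) = f ⁻¹ᵁ X.basicOpen (g i) :=
      fun i => (f.preimage_basicOpen (g i)).symm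
    simp only [this]
    rw [← Scheme.Hom.preimage_iSup, show (⨆ i : s, X.basicOpen (g i)) = W ⊓ U from hs]
    refine le_antisymm (fun x hx => hx.1) fun x hx => ⟨hx, ?_⟩
    exact (q.base x).2
  have hM : Sep g Γ(V, T) ∧ Glue g Γ(V, T) := sep_glue_sections T hT hT' g T le_rfl hcov (by
    simpa using (Function.bijective_id : Function.Bijective (id : Γ(V, T) → Γ(V, T))))
  haveI : IsFinite q := inferInstance
  have hloc : ∀ i, ∃ (Ag : Type u) (_ : CommRing Ag) (_ : Algebra Γ(X, W) Ag)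
      (_ : IsLocalization.Away (g i) Ag) (Mg : Type u) (_ : AddCommGroup Mg) (_ : Module Γ(X, W) Mg)
      (_ : Module Ag Mg) (_ : IsScalarTower Γ(X, W) Ag Mg) (mk : Γ(V, T) →ₗ[Γ(X, W)] Mg),
      IsLocalizedModule (Submonoid.powers (g i)) mk ∧ Module.Finite Ag Mg ∧
        Module.Projective Ag Mg := by
    intro i
    let D := X.basicOpen (g i)
    have hD : IsAffineOpen D := hW.basicOpen (g i)
    have hDU : D ≤ U := by
      intro x hx
      have : x ∈ W ⊓ U := hs ▸ Opens.mem_iSup.mpr ⟨i, hx⟩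
      exact this.2
    have hr : D ≤ U.ι.opensRange := by rw [Scheme.Opens.opensRange_ι]; exact hDU
    have hD' : IsAffineOpen (U.ι ⁻¹ᵁ D) := hD.preimage_of_isOpenImmersion U.ι hr
    have hfD : IsAffineOpen (f ⁻¹ᵁ D) := hD'.preimage q
    have hfin : (f.app D).hom.Finite := by
      change ((q.app (U.ι ⁻¹ᵁ D)).hom.comp (U.ι.app D).hom).Finite
      haveI : IsIso (U.ι.app D) := Scheme.Hom.isIso_app U.ι D hr
      refine RingHom.Finite.comp (IsFinite.finite_app q _ hD') ?_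
      exact RingHom.Finite.of_surjective _ (ConcreteCategory.bijective_of_isIso (U.ι.app D)).2
    have hflat : (f.app D).hom.Flat := by
      haveI : Flat f := inferInstanceAs (Flat (q ≫ U.ι))
      rw [Scheme.Hom.app_eq_appLE]
      exact HasRingHomProperty.appLE @Flat f inferInstance ⟨D, hD⟩ ⟨f ⁻¹ᵁ D, hfD⟩ le_rfl
    letI aD : Algebra Γ(X, D) Γ(V, f ⁻¹ᵁ D) := (f.app D).hom.toAlgebra
    letI aR : Algebra Γ(X, W) Γ(X, D) := (X.presheaf.map (homOfLE (X.basicOpen_le (g i))).op).hom.toAlgebra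
    haveI : IsLocalization.Away (g i) Γ(X, D) := hW.isLocalization_basicOpen (g i)
    letI aW : Algebra Γ(X, W) Γ(V, f ⁻¹ᵁ D) := ((algebraMap Γ(X, D) _).comp (algebraMap _ Γ(X, D))).toAlgebra
    haveI : IsScalarTower Γ(X, W) Γ(X, D) Γ(V, f ⁻¹ᵁ D) := IsScalarTower.of_algebraMap_eq' rfl
    have hle : f ⁻¹ᵁ D ≤ T := f.preimage_mono (X.basicOpen_le (g i))
    letI aT : Algebra Γ(V, T) Γ(V, f ⁻¹ᵁ D) := (V.presheaf.map (homOfLE hle).op).hom.toAlgebra
    haveI : IsScalarTower Γ(X, W) Γ(V, T) Γ(V, f ⁻¹ᵁ D) := IsScalarTower.of_algebraMap_eq fun x => by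
      change (X.presheaf.map _ ≫ f.app D) x = (f.app W ≫ V.presheaf.map _) x
      rw [Scheme.Hom.naturality]
      rfl
    haveI : Module.Finite Γ(X, D) Γ(V, f ⁻¹ᵁ D) := hfin
    haveI : Module.Flat Γ(X, D) Γ(V, f ⁻¹ᵁ D) := hflat
    haveI : IsNoetherianRing Γ(X, D) := IsLocallyNoetherian.component_noetherian ⟨D, hD⟩
    haveI : Module.FinitePresentation Γ(X, D) Γ(V, f ⁻¹ᵁ D) := Module.finitePresentation_of_finite _ _
    exact ⟨Γ(X, D), inferInstance, aR, inferInstance, Γ(V, f ⁻¹ᵁ D), inferInstance, inferInstance,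
      inferInstance, inferInstance, (IsScalarTower.toAlgHom Γ(X, W) Γ(V, T) Γ(V, f ⁻¹ᵁ D)).toLinearMap,
      isLocalizedModule_basicOpen T hT hT' (g i) _ (f.preimage_basicOpen (g i)) hle rfl,
      inferInstance, Module.Flat.projective_of_finitePresentation⟩
  obtain ⟨F, hFfg, hF⟩ := exists_finset_span (g := g) (M := Γ(V, T)) fun i => by
    obtain ⟨Ag, _, _, _, Mg, _, _, _, _, mk, h1, h2, h3⟩ := hloc i
    haveI := h1
    haveI := h2
    exact exists_span_local (g i) Ag Mg mk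
  have hB : ∀ i, DualBasisAt g i Γ(V, T) := fun i => by
    obtain ⟨Ag, _, _, _, Mg, _, _, _, _, mk, h1, h2, h3⟩ := hloc i
    haveI := h1
    haveI := h2
    haveI := h3
    exact dualBasisAt hA.1 hA.2 F hFfg hF i Ag Mg mk
  refine ⟨finite_of_dualBasis hM.1 hB, ?_⟩
  intro p _ a b hab
  exact regPairAt_of_dualBasis hM.1 hM.2 hB hab

theorem regPairAt_congr {A : Type u} [CommRing A] {M N : Type u} [AddCommGroup M] [Module A M]
    [AddCommGroup N] [Module A N] (e : M ≃ₗ[A] N) {p : Ideal A} {a b : A}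
    (h : RegPairAt p N a b) : RegPairAt p M a b := by
  refine ⟨fun x hx => ?_, fun x y hxy => ?_⟩
  · obtain ⟨s, hs, h'⟩ := h.1 (e x) (by rw [← map_smul, hx, map_zero])
    exact ⟨s, hs, e.injective (by rw [map_smul, h', map_zero])⟩
  · obtain ⟨s, z, hs, h'⟩ := h.2 (e x) (e y) (by rw [← map_smul, hxy, map_smul])
    exact ⟨s, e.symm z, hs, e.injective (by rw [map_smul, map_smul, h', e.apply_symm_apply])⟩

/-- the integral closure of `X` in a finite flat cover of a big open is finite, of depth two off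
the open, and restricts to the cover. -/
theorem exists_finite_extension {X : Scheme.{u}} [IsLocallyNoetherian X] (U : X.Opens)
    (hU : ∀ x : X, x ∉ U → (2 : ℕ∞) ≤ LocCoh.depth (X.presheaf.stalk x) (X.presheaf.stalk x))
    {V : Scheme.{u}} (q : V ⟶ (U : Scheme.{u})) [IsFinite q] [Flat q] :
    ∃ (Y : Scheme.{u}) (π : Y ⟶ X) (e : pullback π U.ι ≅ V), IsFinite π ∧
      e.hom ≫ q = pullback.snd π U.ι ∧
      ∀ y : Y, π.base y ∉ U → (2 : ℕ∞) ≤ LocCoh.depth (Y.presheaf.stalk y) (Y.presheaf.stalk y) := by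
  haveI : QuasiCompact U.ι := inferInstance
  let f := q ≫ U.ι
  let π := f.fromNormalization
  have hsurj : ∀ (W : X.Opens), IsAffineOpen W →
      letI := (f.app W).hom.toAlgebra
      integralClosure Γ(X, W) Γ(V, f ⁻¹ᵁ W) = ⊤ := by
    intro W hW
    letI := (f.app W).hom.toAlgebra
    haveI : Module.Finite Γ(X, W) Γ(V, f ⁻¹ᵁ W) := (finite_app_of_hartogs U hU q hW).1
    exact integralClosure_eq_top_iff.mpr inferInstance
  have hpre : ∀ W : X.Opens, f ⁻¹ᵁ W ≤ f.toNormalization ⁻¹ᵁ π ⁻¹ᵁ W := fun W => by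
    simp [π, ← Scheme.Hom.comp_preimage]
  have hψ : ∀ (W : X.Opens), IsAffineOpen W →
      Function.Bijective (f.toNormalization.appLE (π ⁻¹ᵁ W) (f ⁻¹ᵁ W) (hpre W)) := by
    intro W hW
    letI := (f.app W).hom.toAlgebra
    rw [← f.normalizationObjIso_hom_val hW]
    have hv : Function.Bijective
        (fun z : integralClosure Γ(X, W) Γ(V, f ⁻¹ᵁ W) => (z : Γ(V, f ⁻¹ᵁ W))) :=
      ⟨fun a b h => Subtype.ext h, fun x => ⟨⟨x, by rw [hsurj W hW]; trivial⟩, rfl⟩⟩
    exact hv.comp (ConcreteCategory.bijective_of_isIso (f.normalizationObjIso hW).hom)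
  have hcomp : ∀ (W : X.Opens), π.app W ≫ f.toNormalization.appLE (π ⁻¹ᵁ W) (f ⁻¹ᵁ W) (hpre W) =
      f.app W := by
    intro W
    rw [Scheme.Hom.app_eq_appLE, Scheme.Hom.appLE_comp_appLE]
    simp [π, Scheme.Hom.app_eq_appLE]
  have hfinπ : IsFinite π := by
    refine (isFinite_iff π).mpr ⟨inferInstance, fun W hW => ?_⟩
    have h := (finite_app_of_hartogs U hU q hW).1
    let E := RingEquiv.ofBijective (f.toNormalization.appLE (π ⁻¹ᵁ W) (f ⁻¹ᵁ W) (hpre W)).hom (hψ W hW)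
    have e : (π.app W).hom = E.symm.toRingHom.comp (f.app W).hom := by
      ext x
      have := congrArg (fun φ => φ x) (hcomp W)
      simp only [RingHom.comp_apply]
      rw [← this]
      exact (E.symm_apply_apply _).symm
    rw [e]
    exact RingHom.Finite.comp (RingHom.Finite.of_surjective _ E.symm.surjective) h
  haveI : IsFinite π := hfinπ
  -- the restriction to `U`
  let l : V ⟶ pullback f U.ι := pullback.lift (𝟙 V) q (by simp [f])
  have hl2 : pullback.fst f U.ι ≫ q = pullback.snd f U.ι := by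
    rw [← cancel_mono U.ι, Category.assoc]
    exact pullback.condition
  haveI : IsIso l := ⟨pullback.fst f U.ι, pullback.lift_fst _ _ _, by
    apply pullback.hom_ext
    · rw [Category.assoc, pullback.lift_fst]; exact (Category.comp_id _).trans (Category.id_comp _).symm
    · rw [Category.assoc, pullback.lift_snd]; exact hl2.trans (Category.id_comp _).symm⟩
  haveI : IsFinite (pullback.snd f U.ι) := by rw [← hl2]; infer_instance
  let θ : V ⟶ pullback π U.ι :=
    l ≫ (pullback.snd f U.ι).toNormalization ≫ f.normalizationPullback U.ι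
  haveI : IsIso θ := by dsimp only [θ]; infer_instance
  refine ⟨f.normalization, π, (asIso θ).symm, hfinπ, ?_, fun y hy => ?_⟩
  · rw [Iso.symm_hom, asIso_inv, IsIso.inv_comp_eq]
    simp only [θ, l, π, Category.assoc, Scheme.Hom.normalizationPullback_snd,
      Scheme.Hom.toNormalization_fromNormalization]
    exact (pullback.lift_snd _ _ _).symm
  obtain ⟨W, hW, hyW, -⟩ := exists_isAffineOpen_mem_and_subset (Opens.mem_top (π.base y))
  let B := Γ(f.normalization, π ⁻¹ᵁ W)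
  letI algM : Algebra Γ(X, W) Γ(V, f ⁻¹ᵁ W) := (f.app W).hom.toAlgebra
  letI algB : Algebra Γ(X, W) B := (π.app W).hom.toAlgebra
  haveI : IsNoetherianRing Γ(X, W) := IsLocallyNoetherian.component_noetherian ⟨W, hW⟩
  haveI : Module.Finite Γ(X, W) B := π.finite_app W hW
  haveI : IsNoetherianRing B := IsNoetherianRing.of_finite Γ(X, W) B
  let ψ : B →ₐ[Γ(X, W)] Γ(V, f ⁻¹ᵁ W) :=
    { (f.toNormalization.appLE (π ⁻¹ᵁ W) (f ⁻¹ᵁ W) (hpre W)).hom with
      commutes' := fun r => congrArg (fun φ => φ r) (hcomp W) }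
  have hWB : IsAffineOpen (π ⁻¹ᵁ W) := hW.preimage π
  let qy := hWB.primeIdealOf ⟨y, hyW⟩
  have hq : qy.asIdeal.comap (algebraMap Γ(X, W) B) = (hW.primeIdealOf ⟨π.base y, hyW⟩).asIdeal := by
    have := congrArg PrimeSpectrum.asIdeal
      (IsAffineOpen.comap_primeIdealOf_appLE (f := π) W hW _ hWB le_rfl hyW)
    rw [← this, RingHom.algebraMap_toAlgebra, Scheme.Hom.app_eq_appLE]
    rfl
  obtain ⟨a, b, ha, hb, hab⟩ := exists_regPairAt (A := Γ(X, W)) (hW.primeIdealOf ⟨π.base y, hyW⟩).asIdeal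
    (by
      rw [Hartogs.depth_stalk_eq hW (π.base y) hyW]
      exact hU _ hy)
  rw [← hq] at ha hb
  have hB : RegPairAt (qy.asIdeal.comap (algebraMap Γ(X, W) B)) B a b :=
    regPairAt_congr (LinearEquiv.ofBijective ψ.toLinearMap (hψ W hW))
      ((finite_app_of_hartogs U hU q hW).2 _ a b (hq ▸ hab))
  letI := TopCat.Presheaf.algebra_section_stalk f.normalization.presheaf (U := π ⁻¹ᵁ W) ⟨y, hyW⟩
  haveI : IsLocalization.AtPrime (f.normalization.presheaf.stalk y) qy.asIdeal :=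
    hWB.isLocalization_stalk ⟨y, hyW⟩
  exact two_le_depth_of_regPairAt qy.asIdeal ha hb hB _

end Groth.Agent.S2Ext24
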