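import Groth.Prelude
import Groth.Agent.Alg6.AssDepth

/-!
# Finiteness and depth of modules glued from projective modules over a big open
-/

universe u

open IsLocalRing

namespace Groth.Agent.S2Ext24

variable {A : Type u} [CommRing A] {ι : Type*}

/-- sections with no torsion supported off the cover -/
def Sep (g : ι → A) (M : Type*) [AddCommGroup M] [Module A M] : Prop :=
  ∀ m : M, (∀ i, ∃ k, g i ^ k • m = 0) → m = 0

/-- compatible families of fractions glue -/
def Glue (g : ι → A) (M : Type*) [AddCommGroup M] [Module A M] : Prop :=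
  ∀ (x : ι → M) (n : ℕ), (∀ i j, g j ^ n • x i = g i ^ n • x j) →
    ∃ m : M, ∀ i, ∃ k, g i ^ (k + n) • m = g i ^ k • x i

/-- a weakly regular pair at a prime, in elements -/
def RegPairAt (p : Ideal A) (M : Type*) [AddCommGroup M] [Module A M] (a b : A) : Prop :=
  (∀ x : M, a • x = 0 → ∃ s, s ∉ p ∧ s • x = 0) ∧
    (∀ x y : M, b • x = a • y → ∃ s, ∃ z : M, s ∉ p ∧ s • x = a • z)

variable {g : ι → A} {M : Type u} [AddCommGroup M] [Module A M]

theorem pow_smul_eq {h : A} {x y : M} {k : ℕ} (e : h ^ k • x = h ^ k • y) (l : ℕ) (hl : k ≤ l) :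
    h ^ l • x = h ^ l • y := by
  obtain ⟨d, rfl⟩ := Nat.exists_eq_add_of_le hl
  rw [pow_add, mul_comm, mul_smul, mul_smul, e]

theorem exists_functional (hA : Sep g A) (hG : Glue g A) [Finite ι] (F : Submodule A M)
    (hF : ∀ i (m : M), ∃ N, g i ^ N • m ∈ F) (φ : F →ₗ[A] A) :
    ∃ Φ : M →ₗ[A] A, ∀ i (m : M), ∃ N, ∃ h : g i ^ N • m ∈ F, φ ⟨_, h⟩ = g i ^ N * Φ m := by
  classical
  let P : M → A → Prop := fun m b => ∀ i, ∃ N, ∃ h : g i ^ N • m ∈ F, φ ⟨_, h⟩ = g i ^ N * b
  have raise : ∀ i (m : M) (b : A) (N d : ℕ) (h : g i ^ N • m ∈ F), φ ⟨_, h⟩ = g i ^ N * b →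
      ∃ h' : g i ^ (d + N) • m ∈ F, φ ⟨_, h'⟩ = g i ^ (d + N) * b := by
    intro i m b N d h e
    have h' : g i ^ (d + N) • m ∈ F := by
      rw [pow_add, mul_smul]; exact F.smul_mem _ h
    refine ⟨h', ?_⟩
    have : (⟨_, h'⟩ : F) = g i ^ d • ⟨_, h⟩ := Subtype.ext (by
      simp [pow_add, mul_smul])
    rw [this, map_smul, e, smul_eq_mul, pow_add, mul_assoc]
  have huniq : ∀ m b b', P m b → P m b' → b = b' := by
    intro m b b' h h'
    refine sub_eq_zero.mp (hA _ fun i => ?_)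
    obtain ⟨N, e, he⟩ := h i
    obtain ⟨N', e', he'⟩ := h' i
    obtain ⟨e₁, he₁⟩ := raise i m b N N' e he
    obtain ⟨e₂, he₂⟩ := raise i m b' N' N e' he'
    refine ⟨N' + N, ?_⟩
    have hc : (⟨_, e₁⟩ : F) = ⟨_, e₂⟩ := Subtype.ext (by simp [add_comm])
    rw [smul_eq_mul, mul_sub, sub_eq_zero, ← he₁, hc, he₂, add_comm]
  have hex : ∀ m, ∃ b, P m b := by
    intro m
    haveI := Fintype.ofFinite ι
    choose N hN using fun i => hF i m
    let n := Finset.univ.sup N
    have hn : ∀ i, g i ^ n • m ∈ F := by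
      intro i
      obtain ⟨d, hd⟩ := Nat.exists_eq_add_of_le (Finset.le_sup (f := N) (Finset.mem_univ i))
      rw [show n = d + N i by rw [add_comm]; exact hd, pow_add, mul_smul]
      exact F.smul_mem _ (hN i)
    obtain ⟨b, hb⟩ := hG (fun i => φ ⟨_, hn i⟩) n (fun i j => by
      rw [← map_smul, ← map_smul]
      congr 1
      exact Subtype.ext (by simp [smul_smul, mul_comm]))
    refine ⟨b, fun i => ?_⟩
    obtain ⟨k, hk⟩ := hb i
    have h' : g i ^ (k + n) • m ∈ F := by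
      rw [pow_add, mul_smul]; exact F.smul_mem _ (hn i)
    refine ⟨k + n, h', ?_⟩
    have : (⟨_, h'⟩ : F) = g i ^ k • ⟨_, hn i⟩ := Subtype.ext (by simp [pow_add, mul_smul])
    rw [this, map_smul, ← hk, smul_eq_mul]
  choose f hf using hex
  refine ⟨{ toFun := f
            map_add' := ?_
            map_smul' := ?_ }, fun i m => hf m i⟩
  · intro x y
    refine huniq (x + y) _ _ (hf _) (fun i => ?_)
    obtain ⟨N, e, he⟩ := hf x i
    obtain ⟨N', e', he'⟩ := hf y i
    obtain ⟨e₁, he₁⟩ := raise i x (f x) N N' e he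
    obtain ⟨e₂, he₂⟩ := raise i y (f y) N' N e' he'
    have e₂' : g i ^ (N' + N) • y ∈ F := by rw [add_comm]; exact e₂
    have h : g i ^ (N' + N) • (x + y) ∈ F := by rw [smul_add]; exact F.add_mem e₁ e₂'
    refine ⟨N' + N, h, ?_⟩
    have : (⟨_, h⟩ : F) = ⟨_, e₁⟩ + ⟨_, e₂'⟩ := Subtype.ext (by simp [smul_add])
    rw [this, map_add, he₁, mul_add]
    congr 1
    have h2 : (⟨_, e₂'⟩ : F) = ⟨_, e₂⟩ := Subtype.ext (by simp [add_comm])
    rw [h2, he₂, add_comm]
  · intro r x
    refine huniq (r • x) _ _ (hf _) (fun i => ?_)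
    obtain ⟨N, e, he⟩ := hf x i
    have h : g i ^ N • r • x ∈ F := by rw [smul_comm]; exact F.smul_mem _ e
    refine ⟨N, h, ?_⟩
    have : (⟨_, h⟩ : F) = r • ⟨_, e⟩ := Subtype.ext (by simp [smul_comm r])
    rw [this, map_smul, he, RingHom.id_apply, smul_eq_mul, smul_eq_mul, mul_left_comm]

/-- finite dual basis near `D(g i)` -/
def DualBasisAt (g : ι → A) (i : ι) (M : Type u) [AddCommGroup M] [Module A M] : Prop :=
  ∃ (n : ℕ) (Φ : Fin n → (M →ₗ[A] A)) (f : Fin n → M), ∀ x : M, ∃ N k : ℕ,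
    g i ^ N • x = g i ^ k • ∑ j, Φ j x • f j

theorem exists_span_local (h : A) (Ag : Type u) [CommRing Ag] [Algebra A Ag] [IsLocalization.Away h Ag]
    (Mg : Type u) [AddCommGroup Mg] [Module A Mg] [Module Ag Mg] [IsScalarTower A Ag Mg]
    (mk : M →ₗ[A] Mg) [IsLocalizedModule (Submonoid.powers h) mk] [Module.Finite Ag Mg] :
    ∃ T : Finset M, ∀ m : M, ∃ N, h ^ N • m ∈ Submodule.span A (T : Set M) := by
  classical
  obtain ⟨S, hS⟩ := (Module.Finite.fg_top : (⊤ : Submodule Ag Mg).FG)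
  choose c hc using fun y : Mg => IsLocalizedModule.surj (Submonoid.powers h) mk y
  refine ⟨S.image fun y => (c y).1, fun m => ?_⟩
  let F := Submodule.span A ((S.image fun y => (c y).1 : Finset M) : Set M)
  have key : ∀ y : Mg, ∃ N, h ^ N • y ∈ F.map mk := by
    intro y
    have hy : y ∈ Submodule.span Ag (S : Set Mg) := hS ▸ Submodule.mem_top
    induction hy using Submodule.span_induction with
    | mem y hy =>
      obtain ⟨N, hN⟩ := (c y).2.2
      refine ⟨N, ⟨(c y).1, Submodule.subset_span (Finset.mem_image_of_mem _ hy), ?_⟩⟩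
      rw [← hc y, Submonoid.smul_def, ← hN]
    | zero => exact ⟨0, by simp⟩
    | add y z _ _ hy hz =>
      obtain ⟨N, hN⟩ := hy
      obtain ⟨N', hN'⟩ := hz
      refine ⟨N' + N, ?_⟩
      rw [smul_add, pow_add, mul_smul, mul_smul, smul_comm _ _ z]
      exact Submodule.add_mem _ (Submodule.smul_mem _ _ hN) (Submodule.smul_mem _ _ hN')
    | smul r y _ hy =>
      obtain ⟨N, hN⟩ := hy
      obtain ⟨⟨a, s⟩, has⟩ := IsLocalization.surj (Submonoid.powers h) r
      obtain ⟨k, hk⟩ := s.2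
      refine ⟨k + N, ?_⟩
      have e : h ^ (k + N) • r • y = a • h ^ N • y := by
        rw [pow_add, mul_smul, smul_comm (h ^ N) r y, ← algebraMap_smul Ag (h ^ k), smul_smul,
          mul_comm, show (h ^ k : A) = (s : A) from hk, has, algebraMap_smul]
      rw [e]
      exact Submodule.smul_mem _ _ hN
  obtain ⟨N, m', hm', he⟩ := key (mk m)
  rw [← map_smul] at he
  obtain ⟨⟨_, k, rfl⟩, hk⟩ := IsLocalizedModule.exists_of_eq (S := Submonoid.powers h) he
  refine ⟨k + N, ?_⟩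
  rw [pow_add, mul_smul]
  change h ^ k • m' = h ^ k • h ^ N • m at hk
  rw [← hk]
  exact F.smul_mem _ hm'

theorem exists_finset_span [Finite ι]
    (hloc : ∀ i, ∃ T : Finset M, ∀ m : M, ∃ N, g i ^ N • m ∈ Submodule.span A (T : Set M)) :
    ∃ F : Submodule A M, F.FG ∧ ∀ i (m : M), ∃ N, g i ^ N • m ∈ F := by
  classical
  haveI := Fintype.ofFinite ι
  choose T hT using hloc
  refine ⟨Submodule.span A ((Finset.univ.biUnion T : Finset M) : Set M), ⟨_, rfl⟩, fun i m => ?_⟩
  obtain ⟨N, hN⟩ := hT i m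
  exact ⟨N, Submodule.span_mono (by
    intro x hx
    exact Finset.mem_coe.mpr (Finset.mem_biUnion.mpr ⟨i, Finset.mem_univ _, hx⟩)) hN⟩

theorem dualBasisAt [IsNoetherianRing A] [Finite ι] (hA : Sep g A) (hG : Glue g A)
    (F : Submodule A M) (hFfg : F.FG) (hF : ∀ i (m : M), ∃ N, g i ^ N • m ∈ F) (i : ι)
    (Ag : Type u) [CommRing Ag] [Algebra A Ag] [IsLocalization.Away (g i) Ag]
    (Mg : Type u) [AddCommGroup Mg] [Module A Mg] [Module Ag Mg] [IsScalarTower A Ag Mg]
    (mk : M →ₗ[A] Mg) [IsLocalizedModule (Submonoid.powers (g i)) mk] [Module.Finite Ag Mg]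
    [Module.Projective Ag Mg] : DualBasisAt g i M := by
  classical
  haveI : Module.Finite A F := Module.Finite.iff_fg.mpr hFfg
  haveI : Module.FinitePresentation A F := Module.finitePresentation_of_finite A F
  obtain ⟨n, π, hπ⟩ := Module.Finite.exists_fin' Ag Mg
  obtain ⟨σ, hσ⟩ := Module.projective_lifting_property π LinearMap.id hπ
  have hsum : ∀ y : Mg, y = ∑ j, σ y j • π (Pi.single j 1) := fun y => by
    conv_lhs => rw [show y = π (σ y) from (LinearMap.congr_fun hσ y).symm]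
    conv_lhs => rw [← Finset.univ_sum_single (σ y)]
    rw [map_sum]
    exact Finset.sum_congr rfl fun j _ => by
      rw [← map_smul, ← Pi.single_smul, smul_eq_mul, mul_one]
  have hu : ∀ N : ℕ, IsUnit (algebraMap A Ag (g i ^ N)) := fun N =>
    IsLocalization.map_units Ag (⟨g i ^ N, N, rfl⟩ : Submonoid.powers (g i))
  have hΦ : ∀ j, ∃ (Φ : M →ₗ[A] A) (r : ℕ), ∀ x,
      algebraMap A Ag (Φ x) = algebraMap A Ag (g i ^ r) * σ (mk x) j := by
    intro j
    let l : F →ₗ[A] Ag :=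
      (((LinearMap.proj j).comp σ).restrictScalars A).comp (mk.comp F.subtype)
    obtain ⟨φ, ⟨_, r, rfl⟩, hφ⟩ := Module.FinitePresentation.exists_lift_of_isLocalizedModule
      (Submonoid.powers (g i)) (Algebra.linearMap A Ag) l
    obtain ⟨Φ, hΦ⟩ := exists_functional hA hG F hF φ
    refine ⟨Φ, r, fun x => ?_⟩
    obtain ⟨N, h, he⟩ := hΦ i x
    apply (hu N).mul_left_cancel
    rw [← map_mul, ← he]
    have h2 := LinearMap.congr_fun hφ ⟨_, h⟩
    change algebraMap A Ag (φ ⟨_, h⟩) = g i ^ r • σ (mk (g i ^ N • x)) j at h2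
    rw [h2, map_smul, ← algebraMap_smul Ag (g i ^ N) (mk x), map_smul, Pi.smul_apply,
      smul_eq_mul, Algebra.smul_def]
    ring
  choose Φ r hΦ using hΦ
  choose c hc using fun j => IsLocalizedModule.surj (Submonoid.powers (g i)) mk (π (Pi.single j 1))
  choose t ht using fun j => (c j).2.2
  let R := Finset.univ.sup r + Finset.univ.sup t
  refine ⟨n, Φ, fun j => g i ^ (R - r j - t j) • (c j).1, fun x => ?_⟩
  have he : mk (∑ j, Φ j x • g i ^ (R - r j - t j) • (c j).1) = mk (g i ^ R • x) := by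
    rw [map_sum, map_smul]
    conv_rhs => rw [hsum (mk x), Finset.smul_sum]
    refine Finset.sum_congr rfl fun j _ => ?_
    have h1 : r j ≤ Finset.univ.sup r := Finset.le_sup (Finset.mem_univ j)
    have h2 : t j ≤ Finset.univ.sup t := Finset.le_sup (Finset.mem_univ j)
    have hR : (R - r j - t j) + r j + t j = R := by omega
    have hc' : mk (c j).1 = algebraMap A Ag (g i ^ t j) • π (Pi.single j 1) := by
      rw [algebraMap_smul, ← hc j, Submonoid.smul_def, ← ht j]
    rw [map_smul, map_smul, hc', ← algebraMap_smul Ag (Φ j x), hΦ,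
      ← algebraMap_smul Ag (g i ^ (R - r j - t j)), ← algebraMap_smul Ag (g i ^ R)]
    simp only [smul_smul]
    congr 1
    conv_rhs => rw [← hR, pow_add, pow_add, map_mul, map_mul]
    ring
  obtain ⟨⟨_, k, rfl⟩, hk⟩ := IsLocalizedModule.exists_of_eq (S := Submonoid.powers (g i)) he
  refine ⟨k + R, k, ?_⟩
  rw [pow_add, mul_smul]
  exact hk.symm

theorem finite_of_dualBasis [IsNoetherianRing A] [Finite ι] (hM : Sep g M)
    (hD : ∀ i, DualBasisAt g i M) : Module.Finite A M := by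
  choose n Φ f h using hD
  let L : M →ₗ[A] ((Σ i, Fin (n i)) → A) := LinearMap.pi fun p => Φ p.1 p.2
  refine Module.Finite.of_injective L ?_
  rw [← LinearMap.ker_eq_bot, LinearMap.ker_eq_bot']
  intro x hx
  refine hM x fun i => ?_
  obtain ⟨N, k, he⟩ := h i x
  refine ⟨N, ?_⟩
  rw [he, Finset.sum_eq_zero (fun j _ => ?_), smul_zero]
  have : Φ i j x = 0 := congrFun hx ⟨i, j⟩
  rw [this, zero_smul]

theorem exists_common {κ : Type*} [Finite κ] {p : Ideal A} [p.IsPrime] (Q : κ → A → Prop)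
    (h : ∀ j, ∃ s, s ∉ p ∧ Q j s) (hQ : ∀ j s t, Q j s → Q j (t * s)) :
    ∃ s, s ∉ p ∧ ∀ j, Q j s := by
  classical
  haveI := Fintype.ofFinite κ
  choose s hs hs' using h
  refine ⟨∏ j, s j, fun hmem => ?_, fun j => ?_⟩
  · obtain ⟨j, -, hj⟩ := (Ideal.IsPrime.prod_mem_iff (p := p)).mp hmem
    exact hs j hj
  · rw [← Finset.prod_erase_mul Finset.univ s (Finset.mem_univ j)]
    exact hQ j _ _ (hs' j)

theorem regPairAt_of_dualBasis [Finite ι] {p : Ideal A} [p.IsPrime] (hM : Sep g M) (hMG : Glue g M)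
    (hD : ∀ i, DualBasisAt g i M) {a b : A} (hab : RegPairAt p A a b) : RegPairAt p M a b := by
  classical
  choose n Φ f h using hD
  have h1 : ∀ x : M, a • x = 0 → ∃ s, s ∉ p ∧ s • x = 0 := by
    intro x hx
    obtain ⟨s, hs, hs'⟩ := exists_common (p := p) (κ := Σ i, Fin (n i))
      (fun q s => s • Φ q.1 q.2 x = 0)
      (fun q => hab.1 _ (by rw [← map_smul, hx, map_zero]))
      (fun q s t e => by rw [mul_smul, e, smul_zero])
    refine ⟨s, hs, hM _ fun i => ?_⟩
    obtain ⟨N, k, he⟩ := h i (s • x)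
    refine ⟨N, ?_⟩
    rw [he, Finset.sum_eq_zero (fun j _ => ?_), smul_zero]
    rw [map_smul, hs' ⟨i, j⟩, zero_smul]
  refine ⟨h1, fun x y hxy => ?_⟩
  obtain ⟨s, hs, hs'⟩ := exists_common (p := p) (κ := Σ i, Fin (n i))
    (fun q s => ∃ c : A, s • Φ q.1 q.2 x = a • c)
    (fun q => by
      obtain ⟨s, z, h1, h2⟩ := hab.2 (Φ q.1 q.2 x) (Φ q.1 q.2 y) (by rw [← map_smul, hxy, map_smul])
      exact ⟨s, h1, z, h2⟩)
    (fun q s t ⟨c, e⟩ => ⟨t * c, by rw [mul_smul, e, smul_eq_mul, smul_eq_mul, smul_eq_mul]; ring⟩)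
  choose c hc using hs'
  choose N k hN using fun i => h i x
  haveI := Fintype.ofFinite ι
  let N₀ := Finset.univ.sup N
  let w : ι → M := fun i => g i ^ (N₀ - N i) • g i ^ k i • ∑ j, c ⟨i, j⟩ • f i j
  have hw : ∀ i, s • g i ^ N₀ • x = a • w i := by
    intro i
    have hle : N i ≤ N₀ := Finset.le_sup (Finset.mem_univ i)
    conv_lhs => rw [show N₀ = (N₀ - N i) + N i by omega, pow_add, mul_smul, hN]
    simp only [w, Finset.smul_sum, smul_smul]
    refine Finset.sum_congr rfl fun j _ => ?_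
    congr 1
    have e : s * Φ i j x = a * c ⟨i, j⟩ := hc ⟨i, j⟩
    linear_combination g i ^ (N₀ - N i) * g i ^ k i * e
  obtain ⟨s', hs1, hs2⟩ := exists_common (p := p) (κ := ι × ι)
    (fun q t => t • (g q.2 ^ N₀ • w q.1 - g q.1 ^ N₀ • w q.2) = 0)
    (fun q => h1 _ (by
      rw [smul_sub, sub_eq_zero]
      calc a • g q.2 ^ N₀ • w q.1 = g q.2 ^ N₀ • a • w q.1 := smul_comm _ _ _
        _ = g q.2 ^ N₀ • s • g q.1 ^ N₀ • x := by rw [hw]
        _ = g q.1 ^ N₀ • s • g q.2 ^ N₀ • x := by simp only [smul_smul]; congr 1; ring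
        _ = g q.1 ^ N₀ • a • w q.2 := by rw [hw]
        _ = a • g q.1 ^ N₀ • w q.2 := smul_comm _ _ _))
    (fun q s t e => by rw [mul_smul, e, smul_zero])
  obtain ⟨m, hm⟩ := hMG (fun i => s' • w i) N₀ (fun i j => by
    have e := hs2 (i, j)
    rw [smul_sub, sub_eq_zero] at e
    rw [smul_comm _ s', smul_comm _ s']
    exact e)
  refine ⟨s' * s, m, ?_, sub_eq_zero.mp (hM _ fun i => ?_)⟩
  · exact fun hmem => ((inferInstance : p.IsPrime).mem_or_mem hmem).elim hs1 hs
  obtain ⟨e, he⟩ := hm i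
  refine ⟨e + N₀, ?_⟩
  rw [smul_sub, sub_eq_zero, smul_comm _ a m, he]
  calc g i ^ (e + N₀) • (s' * s) • x = g i ^ e • s' • (s • g i ^ N₀ • x) := by
        simp only [smul_smul]; congr 1; ring
    _ = a • g i ^ e • s' • w i := by rw [hw]; simp only [smul_smul]; congr 1; ring

theorem exists_regPairAt [IsNoetherianRing A] (p : Ideal A) [p.IsPrime]
    (hd : (2 : ℕ∞) ≤ LocCoh.depth (Localization.AtPrime p) (Localization.AtPrime p)) :
    ∃ a b, a ∈ p ∧ b ∈ p ∧ RegPairAt p A a b := by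
  set L := Localization.AtPrime p
  have hne : maximalIdeal L • (⊤ : Submodule L L) ≠ ⊤ := Alg6.maximal_smul_top_ne_top
  obtain ⟨rs, hrs, hmem, hlen⟩ :=
    Alg6.exists_length_ge_of_le_idealDepth hne (n := 2) (by exact_mod_cast hd)
  match rs, hlen with
  | x :: y :: rs, _ =>
    obtain ⟨hx, hy⟩ := (RingTheory.Sequence.isWeaklyRegular_cons_iff L x (y :: rs)).mp hrs
    have hy' := ((RingTheory.Sequence.isWeaklyRegular_cons_iff _ y rs).mp hy).1
    obtain ⟨a, ⟨s, hs⟩, rfl⟩ := IsLocalization.exists_mk'_eq p.primeCompl x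
    obtain ⟨b, ⟨t, ht⟩, rfl⟩ := IsLocalization.exists_mk'_eq p.primeCompl y
    have hm1 := hmem _ (List.mem_cons_self)
    have hm2 := hmem (IsLocalization.mk' L b ⟨t, ht⟩) (by simp)
    rw [IsLocalization.AtPrime.mk'_mem_maximal_iff L p] at hm1 hm2
    refine ⟨a, b, hm1, hm2, fun z hz => ?_, fun z w hzw => ?_⟩
    · have h0 : algebraMap A L z = 0 := by
        apply hx
        simp only [smul_eq_mul, mul_zero]
        rw [IsLocalization.mk'_eq_mul_mk'_one, mul_right_comm, ← map_mul,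
          show a * z = 0 from hz, map_zero, zero_mul]
      obtain ⟨⟨c, hc⟩, hcz⟩ := (IsLocalization.map_eq_zero_iff p.primeCompl L z).mp h0
      exact ⟨c, hc, hcz⟩
    · have h0 : (Submodule.Quotient.mk (algebraMap A L z) :
          QuotSMulTop (IsLocalization.mk' L a ⟨s, hs⟩) L) = 0 := by
        apply hy'
        change (IsLocalization.mk' L b ⟨t, ht⟩) • _ = (IsLocalization.mk' L b ⟨t, ht⟩) • (0 : QuotSMulTop _ L)
        rw [smul_zero, ← Submodule.Quotient.mk_smul, Alg6.mem_pointwise_smul_top_iff]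
        refine ⟨algebraMap A L s * IsLocalization.mk' L w ⟨t, ht⟩, ?_⟩
        rw [smul_eq_mul, smul_eq_mul, ← mul_assoc, IsLocalization.mk'_spec L a ⟨s, hs⟩,
          IsLocalization.mk'_eq_mul_mk'_one w, IsLocalization.mk'_eq_mul_mk'_one b, mul_right_comm _ _ (algebraMap A L z),
          ← mul_assoc, ← map_mul, ← map_mul, show b * z = a * w from hzw]
      rw [Alg6.mem_pointwise_smul_top_iff] at h0
      obtain ⟨v, hv⟩ := h0
      obtain ⟨c, ⟨r, hr⟩, rfl⟩ := IsLocalization.exists_mk'_eq p.primeCompl v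
      rw [smul_eq_mul, ← IsLocalization.mk'_mul, IsLocalization.mk'_eq_iff_eq_mul, ← map_mul,
        IsLocalization.eq_iff_exists p.primeCompl L] at hv
      obtain ⟨⟨d, hd⟩, hdv⟩ := hv
      refine ⟨d * (s * r), d * c, ?_, ?_⟩
      · exact (inferInstance : p.IsPrime).mul_notMem hd ((inferInstance : p.IsPrime).mul_notMem hs hr)
      · simp only [smul_eq_mul, Submonoid.coe_mul] at hdv ⊢
        linear_combination -hdv

theorem two_le_depth_of_regPairAt {B : Type u} [CommRing B] [Algebra A B] [IsNoetherianRing B]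
    (q : Ideal B) [q.IsPrime] {a b : A} (ha : a ∈ q.comap (algebraMap A B))
    (hb : b ∈ q.comap (algebraMap A B)) (hab : RegPairAt (q.comap (algebraMap A B)) B a b)
    (S : Type u) [CommRing S] [Algebra B S] [IsLocalization.AtPrime S q] [IsLocalRing S] :
    (2 : ℕ∞) ≤ LocCoh.depth S S := by
  haveI : IsNoetherianRing S := IsLocalization.isNoetherianRing q.primeCompl S inferInstance
  set α := algebraMap B S (algebraMap A B a) with hα
  set β := algebraMap B S (algebraMap A B b) with hβ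
  have hmα : α ∈ maximalIdeal S := (IsLocalization.AtPrime.to_map_mem_maximal_iff S q _).mpr ha
  have hmβ : β ∈ maximalIdeal S := (IsLocalization.AtPrime.to_map_mem_maximal_iff S q _).mpr hb
  have hreg : IsSMulRegular S α := by
    rw [isSMulRegular_iff_right_eq_zero_of_smul]
    intro z hz
    obtain ⟨z, r, rfl⟩ := IsLocalization.exists_mk'_eq q.primeCompl z
    rw [smul_eq_mul, hα, IsLocalization.mul_mk'_eq_mk'_of_mul, IsLocalization.mk'_eq_zero_iff] at hz
    obtain ⟨⟨c, hc⟩, hcz⟩ := hz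
    obtain ⟨s, hs, hs'⟩ := hab.1 (c * z) (by rw [Algebra.smul_def]; linear_combination hcz)
    rw [IsLocalization.mk'_eq_zero_iff]
    refine ⟨⟨algebraMap A B s * c, (inferInstance : q.IsPrime).mul_notMem hs hc⟩, ?_⟩
    rw [Algebra.smul_def] at hs'
    linear_combination hs'
  refine (Alg6.two_le_depth_iff hmα hreg).mpr fun hass => ?_
  refine Alg6.isSMulRegular_iff_forall_ass.mp ?_ _ hass hmβ
  rw [isSMulRegular_iff_right_eq_zero_of_smul]
  intro z hz
  obtain ⟨z, rfl⟩ := Submodule.Quotient.mk_surjective _ z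
  rw [← Submodule.Quotient.mk_smul, Alg6.mem_pointwise_smul_top_iff] at hz
  rw [Alg6.mem_pointwise_smul_top_iff]
  obtain ⟨w, hw⟩ := hz
  obtain ⟨z, r, rfl⟩ := IsLocalization.exists_mk'_eq q.primeCompl z
  obtain ⟨w, t, rfl⟩ := IsLocalization.exists_mk'_eq q.primeCompl w
  rw [smul_eq_mul, smul_eq_mul, hα, hβ, IsLocalization.mul_mk'_eq_mk'_of_mul,
    IsLocalization.mul_mk'_eq_mk'_of_mul, IsLocalization.eq] at hw
  obtain ⟨⟨c, hc⟩, hcw⟩ := hw
  obtain ⟨s, v, hs, hs'⟩ := hab.2 (c * (t : B) * z) (c * (r : B) * w)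
    (by simp only [Algebra.smul_def]; linear_combination -hcw)
  rw [Algebra.smul_def, Algebra.smul_def] at hs'
  have hu : algebraMap A B s * c * t * r ∈ q.primeCompl :=
    (inferInstance : q.IsPrime).mul_notMem ((inferInstance : q.IsPrime).mul_notMem
      ((inferInstance : q.IsPrime).mul_notMem hs hc) t.2) r.2
  refine ⟨IsLocalization.mk' S v ⟨_, hu⟩, ?_⟩
  rw [smul_eq_mul, hα, IsLocalization.mul_mk'_eq_mk'_of_mul, IsLocalization.eq]
  exact ⟨1, by simp only [Submonoid.coe_one, one_mul]; linear_combination -(r : B) * hs'⟩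

end Groth.Agent.S2Ext24
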