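import Groth.Agent.S2Ext24.Alg
import Groth.Agent.Hartogs.Basic

/-!
# Sections over a big open, and the coherent extension of a finite flat scheme over it
-/

universe u

open CategoryTheory CategoryTheory.Limits AlgebraicGeometry TopologicalSpace Opposite

namespace Groth.Agent.S2Ext24

variable {V : Scheme.{u}}

theorem sep_glue_sections {ι : Type*} [Finite ι] (T : V.Opens) (hT : IsCompact (T : Set V))
    (hT' : IsQuasiSeparated (T : Set V)) {A : Type u} [CommRing A] [Algebra A Γ(V, T)] (g : ι → A)
    (T' : V.Opens) (hle : T' ≤ T) (hcov : (⨆ i, V.basicOpen (algebraMap A Γ(V, T) (g i))) = T')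
    (hbij : Function.Bijective (V.presheaf.map (homOfLE hle).op)) :
    Sep g Γ(V, T) ∧ Glue g Γ(V, T) := by
  let h : ι → Γ(V, T) := fun i => algebraMap A Γ(V, T) (g i)
  let D : ι → V.Opens := fun i => V.basicOpen (h i)
  have hD : ∀ i, D i ≤ T' := fun i => hcov ▸ le_iSup D i
  let res : ∀ i, Γ(V, T) →+* Γ(V, D i) := fun i => (V.presheaf.map (homOfLE (V.basicOpen_le (h i))).op).hom
  have hres : ∀ i (x : Γ(V, T)),
      V.presheaf.map (homOfLE (hD i)).op (V.presheaf.map (homOfLE hle).op x) = res i x := by
    intro i x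
    rw [← ConcreteCategory.comp_apply, ← V.presheaf.map_comp]
    rfl
  have hu : ∀ i k, IsUnit (res i (h i ^ k)) := by
    intro i k
    rw [map_pow]
    exact (RingedSpace.isUnit_res_basicOpen V.toRingedSpace (h i)).pow k
  have hsm : ∀ i (k : ℕ) (x : Γ(V, T)), g i ^ k • x = h i ^ k * x := by
    intro i k x
    rw [Algebra.smul_def, map_pow]
  constructor
  · intro m hm
    apply hbij.injective
    rw [map_zero]
    refine V.sheaf.eq_of_locally_eq' D T' (fun i => homOfLE (hD i)) hcov.ge _ _ fun i => ?_
    obtain ⟨k, hk⟩ := hm i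
    change V.presheaf.map (homOfLE (hD i)).op _ = V.presheaf.map (homOfLE (hD i)).op 0
    rw [map_zero, hres]
    have e := congrArg (res i) hk
    rw [hsm, map_mul, map_zero] at e
    exact (hu i k).mul_right_eq_zero.mp e
  · intro x n hx
    let z : ∀ i, Γ(V, D i) := fun i => res i (x i) * ((hu i n).unit⁻¹).1
    have hz : ∀ i, z i * res i (h i ^ n) = res i (x i) := fun i => by
      rw [mul_assoc, IsUnit.val_inv_mul, mul_one]
    have hc : TopCat.Presheaf.IsCompatible V.presheaf D z := by
      intro i j
      let r1 : Γ(V, T) →+* Γ(V, D i ⊓ D j) :=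
        (V.presheaf.map (homOfLE ((inf_le_left.trans (hD i)).trans hle) : D i ⊓ D j ⟶ T).op).hom
      have ei : ∀ y, V.presheaf.map (Opens.infLELeft (D i) (D j)).op (res i y) = r1 y := fun y => by
        change (V.presheaf.map _ ≫ V.presheaf.map _) y = _
        rw [← V.presheaf.map_comp]
        rfl
      have ej : ∀ y, V.presheaf.map (Opens.infLERight (D i) (D j)).op (res j y) = r1 y := fun y => by
        change (V.presheaf.map _ ≫ V.presheaf.map _) y = _
        rw [← V.presheaf.map_comp]
        rfl
      have u1 : IsUnit (r1 (h i ^ n)) := by rw [← ei]; exact (hu i n).map _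
      have u2 : IsUnit (r1 (h j ^ n)) := by rw [← ej]; exact (hu j n).map _
      apply (u1.mul u2).mul_right_cancel
      have e1 := congrArg (V.presheaf.map (Opens.infLELeft (D i) (D j)).op) (hz i)
      have e2 := congrArg (V.presheaf.map (Opens.infLERight (D i) (D j)).op) (hz j)
      rw [map_mul, ei, ei] at e1
      rw [map_mul, ej, ej] at e2
      have e3 := congrArg r1 (hx i j)
      rw [hsm, hsm, map_mul, map_mul] at e3
      calc _ = r1 (h j ^ n) * r1 (x i) := by rw [← e1]; ring
        _ = r1 (h i ^ n) * r1 (x j) := e3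
        _ = _ := by rw [← e2]; ring
    obtain ⟨s, hs, -⟩ := V.sheaf.existsUnique_gluing' D T' (fun i => homOfLE (hD i)) hcov.ge z hc
    obtain ⟨m, hm⟩ := hbij.surjective s
    refine ⟨m, fun i => ?_⟩
    have e : res i (h i ^ n * m) = res i (x i) := by
      rw [map_mul, ← hz i, mul_comm (z i)]
      congr 1
      rw [← hres, hm]
      exact hs i
    letI : Algebra Γ(V, T) Γ(V, D i) := (res i).toAlgebra
    haveI : IsLocalization.Away (h i) Γ(V, D i) := isLocalization_basicOpen_of_qcqs hT hT' (h i)
    obtain ⟨⟨_, k, rfl⟩, hk⟩ := IsLocalization.exists_of_eq (M := Submonoid.powers (h i)) e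
    refine ⟨k, ?_⟩
    rw [hsm, hsm, pow_add, mul_assoc]
    exact hk

end Groth.Agent.S2Ext24
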